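import Mathlib
import Groth.Prelude.Def_LocRes

/-!
# Elementary identities for residues of formal Laurent series
-/

namespace Groth.Agent.LocResElem

open PowerSeries

universe u

variable {R : Type u} [CommRing R]

theorem deriv_zpow (u : R⟦X⟧ˣ) (n : ℤ) :
    PowerSeries.derivative R ((u ^ n : R⟦X⟧ˣ) : R⟦X⟧) =
      n • (((u ^ (n - 1) : R⟦X⟧ˣ) : R⟦X⟧) * PowerSeries.derivative R (u : R⟦X⟧)) := by
  induction n using Int.induction_on with
  | zero => simp
  | succ i hi =>
    rw [zpow_add_one, Units.val_mul, Derivation.leibniz, hi, smul_eq_mul, smul_eq_mul,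
      add_sub_cancel_right, add_smul, one_smul, mul_smul_comm, ← mul_assoc (u : R⟦X⟧),
      mul_comm (u : R⟦X⟧), ← Units.val_mul, ← zpow_add_one, sub_add_cancel, add_comm]
  | pred i hi =>
    have h : ((u ^ (-(i : ℤ)) : R⟦X⟧ˣ) : R⟦X⟧) = ((u ^ (-(i : ℤ) - 1) : R⟦X⟧ˣ) : R⟦X⟧) * u := by
      rw [← Units.val_mul, ← zpow_add_one, sub_add_cancel]
    rw [h, Derivation.leibniz, smul_eq_mul, smul_eq_mul] at hi
    set a : R⟦X⟧ := ((u ^ (-(i : ℤ) - 1 - 1) : R⟦X⟧ˣ) : R⟦X⟧) with ha
    set b : R⟦X⟧ := ((u ^ (-(i : ℤ) - 1) : R⟦X⟧ˣ) : R⟦X⟧) with hb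
    set du := PowerSeries.derivative R (u : R⟦X⟧) with hdu
    have hab : b = a * u := by
      rw [ha, hb, ← Units.val_mul, ← zpow_add_one, sub_add_cancel]
    refine (u.isUnit.mul_right_inj).mp ?_
    rw [mul_smul_comm, ← mul_assoc, mul_comm (u : R⟦X⟧) a, ← hab, sub_smul, one_smul]
    exact eq_sub_of_add_eq' hi

/-- The key identity over a ring without torsion. -/
theorem key_torsionFree [IsDomain R] [CharZero R] (u : R⟦X⟧ˣ) (a n : ℤ) (hn : n ≠ 0) (k : ℕ)
    (hk : n * a + (k + 1) = 0) :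
    coeff k (((u ^ (n - 1) : R⟦X⟧ˣ) : R⟦X⟧) * PowerSeries.derivative R (u : R⟦X⟧))
      + a • coeff (k + 1) ((u ^ n : R⟦X⟧ˣ) : R⟦X⟧) = 0 := by
  have h := congr_arg (coeff k) (deriv_zpow u n)
  rw [coeff_derivative, map_zsmul] at h
  have hn' : (n : R) ≠ 0 := Int.cast_ne_zero.mpr hn
  have hk' : (n : R) * a + ((k : R) + 1) = 0 := by exact_mod_cast congr_arg (Int.cast : ℤ → R) hk
  apply mul_left_cancel₀ hn'
  rw [zsmul_eq_mul] at h
  rw [mul_zero, zsmul_eq_mul]
  linear_combination -h + coeff (k + 1) ((u ^ n : R⟦X⟧ˣ) : R⟦X⟧) * hk'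

/-- The key identity over any commutative ring, by universality. -/
theorem key (u : R⟦X⟧ˣ) (hu : constantCoeff (u : R⟦X⟧) = 1) (a n : ℤ) (hn : n ≠ 0) (k : ℕ)
    (hk : n * a + (k + 1) = 0) :
    coeff k (((u ^ (n - 1) : R⟦X⟧ˣ) : R⟦X⟧) * PowerSeries.derivative R (u : R⟦X⟧))
      + a • coeff (k + 1) ((u ^ n : R⟦X⟧ˣ) : R⟦X⟧) = 0 := by
  let S := MvPolynomial ℕ ℤ
  let U0 : PowerSeries S := PowerSeries.mk fun i => if i = 0 then 1 else MvPolynomial.X i
  have hU0 : IsUnit U0 := isUnit_iff_constantCoeff.mpr (by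
    rw [← coeff_zero_eq_constantCoeff_apply, coeff_mk, if_pos rfl]; exact isUnit_one)
  let f : S →+* R := MvPolynomial.eval₂Hom (Int.castRingHom R) fun i => coeff i (u : R⟦X⟧)
  let F : S⟦X⟧ →+* R⟦X⟧ := PowerSeries.map f
  have hU : F U0 = u := by
    ext i
    rw [coeff_map, coeff_mk]
    split_ifs with h
    · rw [h, map_one, coeff_zero_eq_constantCoeff_apply, hu]
    · exact MvPolynomial.eval₂Hom_X' _ _ _
  have hu' : Units.map F.toMonoidHom hU0.unit = u := Units.ext hU
  have hd : ∀ P : S⟦X⟧, F (PowerSeries.derivative S P) = PowerSeries.derivative R (F P) := fun P => by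
    ext i; rw [coeff_map, coeff_derivative, coeff_derivative, coeff_map, map_mul, map_add, map_natCast, map_one]
  have hp : ∀ z : ℤ, F ((hU0.unit ^ z : S⟦X⟧ˣ) : S⟦X⟧) = ((u ^ z : R⟦X⟧ˣ) : R⟦X⟧) := fun z => by
    rw [← hu', ← map_zpow]; rfl
  have h := congr_arg f (key_torsionFree hU0.unit a n hn k hk)
  rw [map_add, map_zsmul, map_zero, ← coeff_map, ← coeff_map] at h
  change coeff k (F _) + a • coeff (k + 1) (F _) = 0 at h
  rwa [map_mul, hd, hp, hp, IsUnit.unit_spec, hU] at h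

section field

variable {F : Type u} [Field F]

open HahnSeries (single)

/-- Decomposition of a nonzero Laurent series. -/
theorem exists_decomp (g : LaurentSeries F) (hg : g ≠ 0) :
    ∃ (a : ℤ) (c : F) (u : F⟦X⟧ˣ), c ≠ 0 ∧ constantCoeff (u : F⟦X⟧) = 1 ∧
      g = single a c * ((u : F⟦X⟧) : LaurentSeries F) := by
  set c := constantCoeff (LaurentSeries.powerSeriesPart g) with hcdef
  have hc : c ≠ 0 := by
    rw [hcdef, ← coeff_zero_eq_constantCoeff_apply, LaurentSeries.powerSeriesPart_coeff]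
    simpa using HahnSeries.coeff_order_eq_zero.not.mpr hg
  have h1 : constantCoeff (PowerSeries.C c⁻¹ * LaurentSeries.powerSeriesPart g) = 1 := by
    rw [map_mul, constantCoeff_C, ← hcdef, inv_mul_cancel₀ hc]
  have hU : IsUnit (PowerSeries.C c⁻¹ * LaurentSeries.powerSeriesPart g) :=
    isUnit_iff_constantCoeff.mpr (by rw [h1]; exact isUnit_one)
  refine ⟨g.order, c, hU.unit, hc, h1, ?_⟩
  rw [IsUnit.unit_spec, PowerSeries.coe_mul, PowerSeries.coe_C, ← mul_assoc,
    HahnSeries.C_apply, HahnSeries.single_mul_single, add_zero, mul_inv_cancel₀ hc,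
    LaurentSeries.single_order_mul_powerSeriesPart]

theorem zpow_decomp (a : ℤ) (c : F) (hc : c ≠ 0) (u : F⟦X⟧ˣ) (n : ℤ) :
    (single a c * ((u : F⟦X⟧) : LaurentSeries F)) ^ n =
      single (n * a) (c ^ n) * (((u ^ n : F⟦X⟧ˣ) : F⟦X⟧) : LaurentSeries F) := by
  have h := congr_arg Units.val (map_zpow (Units.map (HahnSeries.ofPowerSeries ℤ F).toMonoidHom) u n)
  rw [Units.val_zpow_eq_zpow_val] at h
  rw [mul_zpow]
  congr 1
  · clear h
    induction n using Int.induction_on with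
    | zero => simp
    | succ i hi =>
      rw [zpow_add_one₀ (HahnSeries.single_ne_zero hc), hi,
        HahnSeries.single_mul_single, zpow_add_one₀ hc, add_mul, one_mul]
    | pred i hi =>
      rw [zpow_sub_one₀ (HahnSeries.single_ne_zero hc), hi,
        HahnSeries.inv_single, HahnSeries.single_mul_single, zpow_sub_one₀ hc, sub_mul, one_mul,
        sub_eq_add_neg]
  · exact h.symm

theorem coeff_single_mul_coe (b : ℤ) (r : F) (P : F⟦X⟧) (i : ℤ) :
    (single b r * ((P : F⟦X⟧) : LaurentSeries F)).coeff i =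
      if i < b then 0 else r * coeff (i - b).natAbs P := by
  rw [HahnSeries.coeff_single_mul, PowerSeries.coeff_coe]
  split_ifs with h1 h2 <;> first | rfl | omega | simp

theorem res_zpow_sub_one_mul_D (g : LaurentSeries F) (n : ℤ) (hn : n ≠ 0) :
    LocRes.res F (g ^ (n - 1) * LocRes.D F g) = 0 := by
  by_cases hg : g = 0
  · subst hg; rw [map_zero (LocRes.D F), mul_zero, map_zero]
  obtain ⟨a, c, u, hc, hu, rfl⟩ := exists_decomp g hg
  rw [zpow_decomp a c hc, LocRes.D_apply, LocRes.derivative_single_mul, LocRes.derivative_coe,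
    LocRes.res_apply, mul_add]
  have e1 : ∀ (P Q : F⟦X⟧) (b : ℤ) (r : F),
      single ((n - 1) * a) (c ^ (n - 1)) * (P : LaurentSeries F) * (single b r * (Q : LaurentSeries F)) =
        single ((n - 1) * a + b) (c ^ (n - 1) * r) * ((P * Q : F⟦X⟧) : LaurentSeries F) := fun P Q b r => by
    rw [PowerSeries.coe_mul, ← HahnSeries.single_mul_single]; ring
  rw [e1, e1, HahnSeries.coeff_add, coeff_single_mul_coe, coeff_single_mul_coe]
  have hvu : ((u ^ (n - 1) : F⟦X⟧ˣ) : F⟦X⟧) * u = ((u ^ n : F⟦X⟧ˣ) : F⟦X⟧) := by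
    rw [← Units.val_mul, ← zpow_add_one, sub_add_cancel]
  have hna : (n - 1) * a + a = n * a := by ring
  have hna' : (n - 1) * a + (a - 1) = n * a - 1 := by ring
  rw [hvu, hna, hna']
  rcases lt_trichotomy (n * a) 0 with h | h | h
  · obtain ⟨k, hk⟩ : ∃ k : ℕ, n * a + (k + 1) = 0 := ⟨(-(n * a) - 1).toNat, by omega⟩
    rw [if_neg (by omega), if_neg (by omega)]
    have h1 : (-1 - n * a).natAbs = k := by omega
    have h2 : (-1 - (n * a - 1)).natAbs = k + 1 := by omega
    rw [h1, h2]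
    have := key u hu a n hn k hk
    rw [zsmul_eq_mul] at this ⊢
    linear_combination c ^ (n - 1) * c * this
  · have ha : a = 0 := by simpa [hn] using h
    rw [if_pos (by omega), if_neg (by omega), ha, zero_smul, mul_zero, zero_mul, add_zero]
  · rw [if_pos (by omega), if_pos (by omega), add_zero]

theorem valuation_coe_unit (u : F⟦X⟧ˣ) :
    (Valued.v (((u : F⟦X⟧) : LaurentSeries F)) : WithZero (Multiplicative ℤ)) = 1 := by
  refine le_antisymm ((LaurentSeries.val_le_one_iff_eq_coe F _).mpr ⟨_, rfl⟩) ?_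
  have h1 : (Valued.v (((u⁻¹ : F⟦X⟧ˣ) : F⟦X⟧) : LaurentSeries F) : WithZero (Multiplicative ℤ)) ≤ 1 :=
    (LaurentSeries.val_le_one_iff_eq_coe F _).mpr ⟨_, rfl⟩
  calc (1 : WithZero (Multiplicative ℤ))
      = Valued.v (((u : F⟦X⟧) : LaurentSeries F) * (((u⁻¹ : F⟦X⟧ˣ) : F⟦X⟧) : LaurentSeries F)) := by
        rw [← PowerSeries.coe_mul, Units.mul_inv, PowerSeries.coe_one, map_one]
    _ ≤ Valued.v ((u : F⟦X⟧) : LaurentSeries F) * 1 := by rw [map_mul]; gcongr
    _ = _ := mul_one _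

theorem res_inv_mul_D (g : LaurentSeries F) (hg : g ≠ 0) :
    LocRes.res F (g⁻¹ * LocRes.D F g) =
      ((-WithZero.log (Valued.v g : WithZero (Multiplicative ℤ)) : ℤ) : F) := by
  obtain ⟨a, c, u, hc, hu, rfl⟩ := exists_decomp g hg
  have hv : (Valued.v (single a c) : WithZero (Multiplicative ℤ)) = WithZero.exp (-a) := by
    have hC : single a c = ((PowerSeries.C c : F⟦X⟧) : LaurentSeries F) * single a 1 := by
      rw [PowerSeries.coe_C, HahnSeries.C_apply, HahnSeries.single_mul_single, zero_add, mul_one]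
    have hCu : IsUnit (PowerSeries.C c : F⟦X⟧) := hc.isUnit.map _
    rw [hC, map_mul, ← hCu.unit_spec, valuation_coe_unit, one_mul, LaurentSeries.valuation_single_zpow]
  rw [map_mul Valued.v, hv, valuation_coe_unit, mul_one, WithZero.log_exp, neg_neg,
    ← zpow_neg_one, zpow_decomp a c hc, LocRes.D_apply, LocRes.derivative_single_mul,
    LocRes.derivative_coe, LocRes.res_apply, mul_add]
  have e1 : ∀ (P Q : F⟦X⟧) (b : ℤ) (r : F),
      single (-1 * a) (c ^ (-1 : ℤ)) * (P : LaurentSeries F) * (single b r * (Q : LaurentSeries F)) =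
        single (-1 * a + b) (c ^ (-1 : ℤ) * r) * ((P * Q : F⟦X⟧) : LaurentSeries F) := fun P Q b r => by
    rw [PowerSeries.coe_mul, ← HahnSeries.single_mul_single]; ring
  rw [e1, e1, HahnSeries.coeff_add, coeff_single_mul_coe, coeff_single_mul_coe,
    if_pos (by omega), if_neg (by omega), zero_add,
    show (-1 - (-1 * a + (a - 1))).natAbs = 0 by omega, zpow_neg_one u, Units.inv_mul,
    coeff_zero_eq_constantCoeff_apply, map_one, mul_one, zsmul_eq_mul, zpow_neg_one]
  field_simp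

theorem res_mul_D_of_le_one (P Q : LaurentSeries F)
    (hP : (Valued.v P : WithZero (Multiplicative ℤ)) ≤ 1)
    (hQ : (Valued.v Q : WithZero (Multiplicative ℤ)) ≤ 1) :
    LocRes.res F (P * LocRes.D F Q) = 0 := by
  obtain ⟨p, rfl⟩ := (LaurentSeries.val_le_one_iff_eq_coe F _).mp hP
  obtain ⟨q, rfl⟩ := (LaurentSeries.val_le_one_iff_eq_coe F _).mp hQ
  rw [LocRes.D_coe, ← PowerSeries.coe_mul, LocRes.res_apply, PowerSeries.coeff_coe, if_pos (by omega)]

end field

end Groth.Agent.LocResElem
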